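import Cfsg.Agent.PSL2Spectrum.Zassenhaus
import Cfsg.Agent.Dickson.MaxPoly
import Cfsg.Agent.Eq.Def_Characters
import Cfsg.Agent.Chars.Basic

/-!
# Groups of the order of `PSL(2, p²)` in which no element has order `p r`
-/

set_option autoImplicit false

namespace CfsgLib.PSL2Spectrum

open Cfsg

section Group

variable {G : Type*} [Group G] [Finite G] {p : ℕ} [hp : Fact p.Prime]

/-- If no element order is divisible by `p r` then the centraliser of an element of order `p` is a `p`-group. -/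
theorem isPGroup_centralizer (hA : ∀ g : G, p ∣ orderOf g → ∀ r : ℕ, r.Prime → r ∣ orderOf g → r = p)
    {z : G} (hz : orderOf z = p) : IsPGroup p (Subgroup.centralizer ({z} : Set G)) := by
  intro y
  have hall : ∀ r : ℕ, r.Prime → r ∣ orderOf (y : G) → r = p := by
    intro r hr hry
    by_contra hne
    have hh : orderOf ((y : G) ^ (orderOf (y : G) / r)) = r :=
      orderOf_pow_orderOf_div (orderOf_pos _).ne' hry
    have hc : Commute z (y : G) := (Subgroup.mem_centralizer_singleton_iff.1 y.2).symm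
    have ho : orderOf (z * (y : G) ^ (orderOf (y : G) / r)) = p * r := by
      rw [(hc.pow_right _).orderOf_mul_eq_mul_orderOf_of_coprime
        (by rw [hz, hh]; exact (Nat.coprime_primes hp.out hr).2 (Ne.symm hne)), hz, hh]
    exact hne (hA _ (ho ▸ dvd_mul_right p r) r hr (ho ▸ dvd_mul_left r p))
  refine ⟨_, Subtype.ext (by
    rw [Subgroup.coe_pow, OneMemClass.coe_one]
    exact (congrArg ((y : G) ^ ·)
      (Nat.eq_prime_pow_of_unique_prime_dvd (orderOf_pos (y : G)).ne' fun hr hd => hall _ hr hd).symm).trans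
      (pow_orderOf_eq_one _))⟩

/-- With Sylow subgroups of order `p²`, two of them meet trivially. -/
theorem semiregular_sq (hA : ∀ g : G, p ∣ orderOf g → ∀ r : ℕ, r.Prime → r ∣ orderOf g → r = p)
    (hS : ∀ S : Sylow p G, Nat.card S = p ^ 2) {P Q : Sylow p G}
    (hQ : Q ≠ P) {u : G} (hu : u ∈ (P : Subgroup G)) (h : u • Q = Q) : u = 1 := by
  by_contra hu1
  obtain ⟨k, hk⟩ := P.2 ⟨u, hu⟩
  have hk' : u ^ p ^ k = 1 := congrArg Subtype.val hk
  obtain ⟨j, -, hj⟩ := (Nat.dvd_prime_pow hp.out).1 (orderOf_dvd_of_pow_eq_one hk')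
  have hj0 : j ≠ 0 := fun h0 => hu1 (orderOf_eq_one_iff.1 (by rw [hj, h0, pow_zero]))
  have hpd : p ∣ orderOf u := hj ▸ dvd_pow_self p hj0
  set z := u ^ (orderOf u / p) with hz
  have hzo : orderOf z = p := orderOf_pow_orderOf_div (orderOf_pos u).ne' hpd
  have hzQ : z • Q = Q :=
    pow_mem (MulAction.mem_stabilizer_iff.2 h : u ∈ MulAction.stabilizer G Q) _
  have hzinQ : z ∈ (Q : Subgroup G) := mem_of_smul_eq (by rw [← hzo]; exact pow_orderOf_eq_one z) hzQ
  have hle : ∀ S : Sylow p G, z ∈ (S : Subgroup G) →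
      Subgroup.centralizer ({z} : Set G) = (S : Subgroup G) := fun S hzS => by
    refine S.3 (isPGroup_centralizer hA hzo) fun x hx => ?_
    have hcomm : IsMulCommutative (S : Subgroup G) :=
      IsPGroup.isMulCommutative_of_card_eq_prime_sq (p := p) (hS S)
    exact Subgroup.mem_centralizer_singleton_iff.2
      (congrArg Subtype.val (hcomm.is_comm.comm (⟨x, hx⟩ : (S : Subgroup G)) ⟨z, hzS⟩))
  exact hQ (Sylow.ext ((hle Q hzinQ).symm.trans (hle P (pow_mem hu _))))

/-- No element has order `p²`. -/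
theorem pow_p_of_sq_order (hp2 : p ≠ 2) (hA : ∀ g : G, p ∣ orderOf g → ∀ r : ℕ, r.Prime → r ∣ orderOf g → r = p)
    (hcard : Nat.card G * 2 = p ^ 2 * ((p ^ 2) ^ 2 - 1)) {g : G} (hg : p ∣ orderOf g) : orderOf g = p := by
  classical
  have hS : ∀ S : Sylow p G, Nat.card S = p ^ 2 := fun S => card_sylow_eq hp2 rfl two_pos hcard S
  obtain ⟨k, hk⟩ : ∃ k, orderOf g = p ^ k :=
    ⟨_, Nat.eq_prime_pow_of_unique_prime_dvd (orderOf_pos g).ne' fun hr hd => hA g hg _ hr hd⟩
  obtain ⟨P, hP⟩ := IsPGroup.exists_le_sylow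
    (IsPGroup.of_card (n := k) (G := Subgroup.zpowers g) (by rw [Nat.card_zpowers, hk]))
  have hk2 : p ^ k ∣ p ^ 2 := by
    rw [← hk, ← Nat.card_zpowers, ← hS P]; exact Subgroup.card_dvd_of_le hP
  have hk2' : k ≤ 2 := (Nat.pow_dvd_pow_iff_le_right hp.out.one_lt).1 hk2
  have hk0 : k ≠ 0 := fun h => by
    rw [hk, h, pow_zero, Nat.dvd_one] at hg
    exact hp.out.ne_one hg
  by_contra hne
  have hk2eq : k = 2 := by
    by_contra h
    exact hne (by rw [hk, show k = 1 by omega, pow_one])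
  subst hk2eq
  have hPz : Subgroup.zpowers g = (P : Subgroup G) :=
    Subgroup.eq_of_le_of_card_ge hP (by rw [hS P, Nat.card_zpowers, hk])
  set N := Subgroup.normalizer ((P : Subgroup G) : Set G) with hN
  have hPN : (P : Subgroup G) ≤ N := Subgroup.le_normalizer
  set P' : Subgroup N := (P : Subgroup G).subgroupOf N with hP'
  haveI : P'.Normal := Subgroup.normal_in_normalizer
  have hP'card : Nat.card P' = p ^ 2 := by
    rw [← hS P]; exact Nat.card_congr (Subgroup.subgroupOfEquivOfLe hPN).toEquiv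
  have hidx : ¬ p ∣ P'.index := (P.subtype hPN).not_dvd_index
  have hcop : (Nat.card P').Coprime P'.index := by
    rw [hP'card]
    exact ((Nat.Prime.coprime_iff_not_dvd hp.out).2 hidx).pow_left _
  obtain ⟨D', hD'⟩ := Subgroup.exists_right_complement'_of_coprime hcop
  have hNcard : Nat.card N = p ^ 2 * Nat.card D' := by rw [← hD'.card_mul, hP'card]
  have hDcop : (Nat.card D').Coprime p := by
    rw [← hD'.symm.index_eq_card, Nat.coprime_comm]; exact (Nat.Prime.coprime_iff_not_dvd hp.out).2 hidx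
  set Z := Subgroup.zpowers (g ^ p) with hZ
  have hzo : orderOf (g ^ p) = p := by
    rw [orderOf_pow, hk, Nat.gcd_eq_right (dvd_pow_self p two_ne_zero), pow_two, Nat.mul_div_cancel _ hp.out.pos]
  -- the complement acts freely on the nontrivial elements of the subgroup of order `p`
  have hD : Nat.card D' ∣ p - 1 := by
    haveI := Fintype.ofFinite G
    let X := {w : G // w ∈ Z ∧ w ≠ 1}
    have hconj : ∀ a : N, ∀ w ∈ Z, (a : G) * w * (a : G)⁻¹ ∈ Z := by
      intro a w hw
      obtain ⟨i, rfl⟩ := Subgroup.mem_zpowers_iff.1 hw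
      have h1 : (a : G) * g * (a : G)⁻¹ ∈ Subgroup.zpowers g := by
        rw [hPz]; exact (Subgroup.mem_normalizer_iff.1 a.2 g).1 (hPz ▸ Subgroup.mem_zpowers g)
      obtain ⟨l, hl⟩ := Subgroup.mem_zpowers_iff.1 h1
      refine Subgroup.mem_zpowers_iff.2 ⟨l * i, ?_⟩
      rw [← conj_zpow, ← conj_pow, ← hl, zpow_mul]
      congr 1
      rw [← zpow_natCast, ← zpow_mul, mul_comm, zpow_mul, zpow_natCast]
    letI : MulAction D' X :=
      { smul := fun a w => ⟨((a : N) : G) * w.1 * ((a : N) : G)⁻¹, hconj a _ w.2.1,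
          fun h => w.2.2 (conj_eq_one_iff.1 h)⟩
        one_smul := fun w => Subtype.ext (by
          show (((1 : D') : N) : G) * w.1 * (((1 : D') : N) : G)⁻¹ = w.1; simp)
        mul_smul := fun a b w => Subtype.ext (by
          show (((a * b : D') : N) : G) * w.1 * (((a * b : D') : N) : G)⁻¹ =
            ((a : N) : G) * (((b : N) : G) * w.1 * ((b : N) : G)⁻¹) * ((a : N) : G)⁻¹
          simp [mul_assoc]) }
    have hX : Nat.card X = Nat.card Z - 1 := by
      have he : Nat.card X = ((Finset.univ.filter fun w : G => w ∈ Z).erase 1).card := by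
        rw [Nat.card_eq_fintype_card, Fintype.card_subtype]
        congr 1
        ext w
        simp [and_comm]
      rw [he, Finset.card_erase_of_mem (by simp), ← Fintype.card_subtype, ← Nat.card_eq_fintype_card]
    have hfree := dvd_card_of_free (A := D') (X := X) fun a w h => by
      have hw : ((a : N) : G) * w.1 * ((a : N) : G)⁻¹ = w.1 := congrArg Subtype.val h
      have hwo : orderOf w.1 = p := by
        obtain ⟨i, hi⟩ := Subgroup.mem_zpowers_iff.1 w.2.1
        refine orderOf_eq_prime ?_ w.2.2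
        rw [← hi, ← zpow_natCast, ← zpow_mul, mul_comm, zpow_mul, zpow_natCast]
        nth_rw 2 [← hzo]
        rw [pow_orderOf_eq_one, one_zpow]
      obtain ⟨j, hj⟩ := isPGroup_centralizer hA hwo
        ⟨((a : N) : G), Subgroup.mem_centralizer_singleton_iff.2 (mul_inv_eq_iff_eq_mul.1 hw)⟩
      have h1 : a ^ p ^ j = 1 := Subtype.ext (Subtype.ext (by
        have := congrArg Subtype.val hj
        simpa using this))
      have h2 := orderOf_dvd_of_pow_eq_one h1
      exact orderOf_eq_one_iff.1 (Nat.eq_one_of_dvd_coprimes (hDcop.pow_right j) (orderOf_dvd_natCard a) h2)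
    rwa [hX, Nat.card_zpowers, hzo] at hfree
  have hn : Nat.card (Sylow p G) * Nat.card N = Nat.card G := by
    rw [P.card_eq_index_normalizer]
    exact Subgroup.index_mul_card _
  have hmod : p ^ 2 ∣ Nat.card (Sylow p G) - 1 := by
    letI : MulAction (P : Subgroup G) {Q : Sylow p G // Q ≠ P} :=
      { smul := fun u Q => ⟨(u : G) • Q.1, fun h => Q.2 (by
          have hu : (u : G) • P = P := Sylow.smul_eq_iff_mem_normalizer.2 (hPN u.2)
          exact smul_left_cancel _ (h.trans hu.symm))⟩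
        one_smul := fun Q => Subtype.ext (one_smul G Q.1)
        mul_smul := fun a b Q => Subtype.ext (mul_smul (a : G) (b : G) Q.1) }
    have h1 := dvd_card_of_free (A := (P : Subgroup G)) (X := {Q : Sylow p G // Q ≠ P})
      fun u Q h => Subtype.ext (semiregular_sq hA hS Q.2 u.2 (congrArg Subtype.val h))
    rw [hS P] at h1
    haveI := Fintype.ofFinite (Sylow p G)
    rwa [Nat.card_eq_fintype_card (α := {Q : Sylow p G // Q ≠ P}), Fintype.card_subtype_compl,
      Fintype.card_subtype_eq, ← Nat.card_eq_fintype_card (α := Sylow p G)] at h1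
  obtain ⟨e, he⟩ := hmod
  have hpos : 0 < Nat.card (Sylow p G) := Nat.card_pos
  rw [← hn, hNcard, show Nat.card (Sylow p G) = p ^ 2 * e + 1 by omega] at hcard
  have hp3 : 3 ≤ p := by have := hp.out.two_le; omega
  set q := p ^ 2 with hq
  have hq9 : p * 3 ≤ q := by rw [hq, pow_two]; exact Nat.mul_le_mul_left p hp3
  have hq1 : 1 ≤ q ^ 2 := Nat.one_le_pow _ _ (by omega)
  have h5 : (q * e + 1) * (2 * Nat.card D') = q ^ 2 - 1 :=
    Nat.eq_of_mul_eq_mul_left (show 0 < q by omega) (by rw [← hcard]; ring)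
  have h6 : (q : ℤ) ∣ ((2 * Nat.card D' + 1 : ℕ) : ℤ) := ⟨(q : ℤ) - e * (2 * Nat.card D'), by
    have h7 : (((q * e + 1) * (2 * Nat.card D') : ℕ) : ℤ) = ((q ^ 2 - 1 : ℕ) : ℤ) := by rw [h5]
    push_cast [Nat.cast_sub hq1] at h7
    push_cast
    linear_combination h7⟩
  have h8 := Nat.le_of_dvd (by omega) (Int.natCast_dvd_natCast.1 h6)
  have h9 := Nat.le_of_dvd (by omega) hD
  omega

end Group

/-- A group of the order of `PSL(2, F)`, `|F| = p²` odd, with no element of order `p r`. -/
theorem iso_psl_sq {G : Type*} [Group G] [Finite G] {p : ℕ} [hp : Fact p.Prime] {F : Type*} [Field F] [Fintype F]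
    (hF : Fintype.card F = p ^ 2) (hp2 : p ≠ 2)
    (hcard : Nat.card G = Nat.card (Matrix.ProjectiveSpecialLinearGroup (Fin 2) F))
    (hA : ∀ g : G, p ∣ orderOf g → ∀ r : ℕ, r.Prime → r ∣ orderOf g → r = p) :
    Nonempty (G ≃* Matrix.ProjectiveSpecialLinearGroup (Fin 2) F) := by
  classical
  have hodd : Odd (Fintype.card F) := hF ▸ (hp.out.odd_of_ne_two hp2).pow
  have h2c := CfsgLib.Dickson.psl_card_mul_two (F := F) hodd
  rw [← hcard, hF] at h2c
  have hp3 : 3 ≤ p := by have := hp.out.two_le; omega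
  have h5 : 5 ≤ p ^ 2 := by rw [pow_two]; nlinarith
  obtain ⟨K, _, _, hK2, ⟨e⟩⟩ := recognise hp2 (fun _ => pow_p_of_sq_order hp2 hA h2c) rfl h5 h2c (fun h4 => by
    exfalso
    obtain ⟨j, hj⟩ := hp.out.odd_of_ne_two hp2
    obtain ⟨t, ht⟩ := h4
    rw [hj] at ht
    ring_nf at ht
    omega)
  have hKodd : Odd (Fintype.card K) := by
    rw [Nat.odd_iff]
    exact FiniteField.odd_card_of_char_ne_two hK2
  have h3 := CfsgLib.Dickson.psl_card_mul_two (F := K) hKodd
  rw [← Nat.card_congr e.toEquiv, h2c, ← hF] at h3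
  have heq : Fintype.card F = Fintype.card K := by
    have hmono : StrictMonoOn (fun x : ℕ => x * (x ^ 2 - 1)) (Set.Ici 1) := fun a ha b _ hab =>
      Nat.mul_lt_mul_of_lt_of_le hab (Nat.sub_le_sub_right (Nat.pow_le_pow_left hab.le 2) 1) (by
        have : 2 ^ 2 ≤ b ^ 2 := Nat.pow_le_pow_left (by simp at ha; omega) 2
        omega)
    exact hmono.injOn (Fintype.card_pos (α := F)) (Fintype.card_pos (α := K)) h3
  obtain ⟨i⟩ := CfsgLib.Dickson.psl_congr (FiniteField.ringEquivOfCardEq (K := K) (K' := F) heq.symm)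
  exact ⟨e.trans i⟩

/-- An element at which every nontrivial character vanishes or has degree a multiple of `k > 1` is trivial. -/
theorem eq_one_of_vanish_or_dvd {G : Type*} [Group G] [Finite G] {k : ℕ} (hk : 2 ≤ k) {g : G}
    (h : ∀ χ : IrrCharacter G, χ ≠ CfsgLib.Chars.oneChar G →
      (χ : G → ℂ) g = 0 ∨ k ∣ charDegree (χ : G → ℂ)) : g = 1 := by
  classical
  by_contra hg
  have hs := CfsgLib.Chars.sum_irr_map_one_mul g
  rw [if_neg hg, ← Finset.add_sum_erase _ _ (Finset.mem_univ (CfsgLib.Chars.oneChar G))] at hs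
  simp only [CfsgLib.Chars.oneChar_apply, one_mul] at hs
  let f : IrrCharacter G → ℂ := fun χ => ((charDegree (χ : G → ℂ) / k : ℕ) : ℂ) * (χ : G → ℂ) g
  have hval : ∀ χ ∈ (Finset.univ : Finset (IrrCharacter G)).erase (CfsgLib.Chars.oneChar G),
      (χ : G → ℂ) 1 * (χ : G → ℂ) g = (k : ℂ) * f χ := by
    intro χ hχ
    simp only [Finset.mem_erase, Finset.mem_univ, and_true] at hχ
    rcases h χ hχ with h0 | ⟨c, hc⟩
    · simp [f, h0]
    · simp only [f]
      rw [← CfsgLib.Chars.coe_charDegree, hc, Nat.mul_div_cancel_left _ (by omega)]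
      push_cast
      ring
  rw [Finset.sum_congr rfl hval, ← Finset.mul_sum] at hs
  set a := ∑ χ ∈ (Finset.univ : Finset (IrrCharacter G)).erase (CfsgLib.Chars.oneChar G), f χ
  have hint : IsIntegral ℤ a :=
    IsIntegral.sum _ fun χ _ => IsIntegral.mul
      (map_natCast (algebraMap ℤ ℂ) _ ▸ isIntegral_algebraMap)
      (CfsgLib.Chars.isIntegral_apply (CfsgLib.Chars.isCharacter_coe χ) g)
  have hk0 : (k : ℂ) ≠ 0 := Nat.cast_ne_zero.2 (by omega)
  have : k ∣ 1 := CfsgLib.Chars.dvd_of_isIntegral_div (by omega) (by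
    rw [show ((1 : ℕ) : ℂ) / (k : ℂ) = -a by rw [Nat.cast_one, div_eq_iff hk0]; linear_combination hs]
    exact hint.neg)
  have := Nat.le_of_dvd one_pos this
  omega

end CfsgLib.PSL2Spectrum
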