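import Cfsg.Agent.Sl2Chars.DegreeSet
import Cfsg.Agent.Sl2Chars.TorusCount
import Cfsg.Agent.Eq.Def_Characters
import Cfsg.Agent.Chars.Basic
import Cfsg.Agent.Chars.Brauer.Defect
import Cfsg.Agent.Classical.Linear.Simple
import Cfsg.Agent.SylowToolkit.Basic
import Cfsg.Agent.Dickson.MaxPoly
import Cfsg.Agent.PSL2Spectrum.SquareOrder

/-!
# Degrees of `PSL(2,q)`, `q ≡ 1 mod 4`, and their consequences for element orders
-/

set_option autoImplicit false

namespace CfsgLib.PSL2Spectrum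

open Cfsg CfsgLib.SL2

variable {F : Type*} [Field F] [Fintype F] [DecidableEq F]

local notation "SLG" => Matrix.SpecialLinearGroup (Fin 2) F
local notation "PSLG" => Matrix.ProjectiveSpecialLinearGroup (Fin 2) F

/-- The degree `(q - 1) / 2` does not occur in `PSL₂` when `q ≡ 1 mod 4`. -/
theorem psl_degree_ne_half_pred (h4 : Fintype.card F % 4 = 1) (h5 : 5 ≤ Fintype.card F)
    (χ : IrrCharacter PSLG) : charDegree (χ : PSLG → ℂ) ≠ (Fintype.card F - 1) / 2 := by
  intro hd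
  have h2 : (2 : F) ≠ 0 := CfsgLib.SL2.two_ne_zero_iff_odd.2 (Nat.odd_iff.2 (by omega))
  obtain ⟨ν, hν⟩ := CfsgLib.Sl2Chars.exists_nonsquare h2
  set φ := Chars.inflate (Subgroup.center SLG) χ with hφ
  have hn : (φ : SLG → ℂ) 1 = (((Fintype.card F - 1) / 2 : ℕ) : ℂ) := by
    rw [← Chars.coe_charDegree, hφ, Chars.charDegree_inflate, hd]
  have hpat : CfsgLib.Sl2Chars.pat ν φ = (0, 1, 0) ∨ CfsgLib.Sl2Chars.pat ν φ = (0, 0, 1) := by
    rcases CfsgLib.Sl2Chars.pat_deg_cases h2 hν φ hn with ⟨-, e⟩ | ⟨-, e⟩ | ⟨-, e⟩ | ⟨-, e⟩ | ⟨-, e⟩ | ⟨h, -⟩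
    all_goals first | exact h | omega
  obtain ⟨g, -, hC, hcard⟩ := exists_card_centralizer_eq_add_one (F := F)
  set C := Subgroup.centralizer ({g} : Set SLG)
  obtain ⟨c, hc⟩ := hC.exists_generator
  have hco : orderOf (c : SLG) = Fintype.card F + 1 := by
    rw [Subgroup.orderOf_coe, orderOf_eq_card_of_forall_mem_zpowers hc, hcard]
  have hz : (c : SLG) ∉ Subgroup.center SLG := fun h => by
    rcases mem_center_iff'.1 h with e | e
    · rw [e, orderOf_one] at hco; omega
    · have : orderOf (c : SLG) ∣ 2 := orderOf_dvd_of_pow_eq_one (by rw [e, neg_one_sq])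
      have := Nat.le_of_dvd two_pos this
      omega
  have hneg : (-1 : SLG) ∈ Subgroup.center SLG := mem_center_iff'.2 (Or.inr rfl)
  have hnC : (-1 : SLG) ∈ C := CfsgLib.Sl2Chars.neg_one_mem_torus h2 hcard
  let c' : C := ⟨-1, hnC⟩ * c
  have hz' : (c' : SLG) ∉ Subgroup.center SLG := fun h => hz (by
    have := mul_mem (inv_mem hneg) h
    rwa [Subgroup.coe_mul, inv_mul_cancel_left] at this)
  have h1 := CfsgLib.Sl2Chars.apply_cuspHalf h2 hC hcard hν hpat hz
  have h1' := CfsgLib.Sl2Chars.apply_cuspHalf h2 hC hcard hν hpat hz'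
  have heq : (φ : SLG → ℂ) (c' : SLG) = (φ : SLG → ℂ) (c : SLG) :=
    Chars.map_mul_of_mem_charKer (Chars.le_charKer_inflate _ χ hneg) _
  have hodd : Odd ((Fintype.card F + 1) / 2) := Nat.odd_iff.2 (by omega)
  have hpow : (c' : SLG) ^ ((Fintype.card F + 1) / 2) = -((c : SLG) ^ ((Fintype.card F + 1) / 2)) := by
    show ((-1 : SLG) * (c : SLG)) ^ _ = _
    rw [(Commute.neg_one_left _).mul_pow, hodd.neg_one_pow, neg_one_mul]
  have hne : (-1 : SLG) ≠ 1 := CfsgLib.SL2.neg_one_ne_one h2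
  have hm : (c : SLG) ^ ((Fintype.card F + 1) / 2) = 1 ∨ (c : SLG) ^ ((Fintype.card F + 1) / 2) = -1 := by
    by_cases h : (c : SLG) ^ ((Fintype.card F + 1) / 2) = 1
    · exact Or.inl h
    · refine Or.inr (eq_neg_one_of_mul_self h2 h ?_)
      rw [← pow_add, show (Fintype.card F + 1) / 2 + (Fintype.card F + 1) / 2 = orderOf (c : SLG) by omega,
        pow_orderOf_eq_one]
  rcases hm with h | h <;> rw [h1, h1', hpow, h] at heq <;> simp [hne] at heq <;> norm_num at heq

/-- The degrees of `PSL₂` for `q ≡ 1 mod 4`. -/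
theorem psl_degrees (h4 : Fintype.card F % 4 = 1) (h5 : 5 ≤ Fintype.card F) (χ : IrrCharacter PSLG) :
    charDegree (χ : PSLG → ℂ) ∈ ({1, Fintype.card F, Fintype.card F + 1, Fintype.card F - 1,
      (Fintype.card F + 1) / 2} : Finset ℕ) := by
  have h := CfsgLib.Sl2Chars.charDegrees_cases (F := F) (CfsgLib.Sl2Chars.charDegrees_psl_subset ⟨χ, rfl⟩)
  have := psl_degree_ne_half_pred h4 h5 χ
  simp only [Finset.mem_insert, Finset.mem_singleton]
  tauto

/-- `PSL₂` has one linear character. -/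
theorem psl_card_linear (h4 : 4 ≤ Fintype.card F) :
    Nat.card {χ : IrrCharacter PSLG // (χ : PSLG → ℂ) 1 = 1} = 1 := by
  rw [Chars.card_linear_irr, Subgroup.index_eq_one]
  haveI : IsSimpleGroup PSLG :=
    CfsgLib.Classical.Linear.isSimpleGroup_psl_fin le_rfl fun _ => by rwa [Nat.card_eq_fintype_card]
  rcases Subgroup.Normal.eq_bot_or_eq_top (H := commutator PSLG) inferInstance with h | h
  · exfalso
    refine CfsgLib.SylowToolkit.not_isMulCommutative_of_not_prime (G := PSLG) (fun hp => ?_) ?_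
    · rcases Nat.even_or_odd (Fintype.card F) with he | ho
      · rw [CfsgLib.Dickson.card_psl_two he] at hp
        exact Nat.not_prime_mul (by omega) (by
          have : 4 ^ 2 ≤ Fintype.card F ^ 2 := Nat.pow_le_pow_left h4 2
          omega) hp
      · have h2c := CfsgLib.Dickson.psl_card_mul_two (F := F) ho
        have hd : Fintype.card F ∣ Nat.card PSLG * 2 := h2c ▸ dvd_mul_right _ _
        have hcop : (Fintype.card F).Coprime 2 := Nat.coprime_two_right.2 ho
        rcases (Nat.dvd_prime hp).1 (hcop.dvd_of_dvd_mul_right hd) with h | h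
        · omega
        · rw [← h] at h2c
          have h6 : 2 = Fintype.card F ^ 2 - 1 := Nat.eq_of_mul_eq_mul_left (by omega) h2c
          have : 4 ^ 2 ≤ Fintype.card F ^ 2 := Nat.pow_le_pow_left h4 2
          omega
    · exact ⟨⟨fun a b => by
        have := Subgroup.commutator_mem_commutator (Subgroup.mem_top a) (Subgroup.mem_top b)
        rw [← commutator_def, h, Subgroup.mem_bot, commutatorElement_eq_one_iff_mul_comm] at this
        exact this⟩⟩
  · exact h

section Degrees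

variable {G : Type*} [Group G] [Finite G] {p : ℕ} [hp : Fact p.Prime]

/-- With the degrees of `PSL(2, p²)` no element order is divisible by `p r`. -/
theorem no_mixed_of_degrees (hp2 : p ≠ 2) (hcard : Nat.card G * 2 = p ^ 2 * ((p ^ 2) ^ 2 - 1))
    (hlin : ∀ χ : IrrCharacter G, charDegree (χ : G → ℂ) = 1 → χ = Chars.oneChar G)
    (hdeg : ∀ χ : IrrCharacter G, charDegree (χ : G → ℂ) ∈
      ({1, p ^ 2, p ^ 2 + 1, p ^ 2 - 1, (p ^ 2 + 1) / 2} : Finset ℕ))
    (g : G) (hg : p ∣ orderOf g) (r : ℕ) (hr : r.Prime) (hrg : r ∣ orderOf g) : r = p := by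
  classical
  haveI := Fintype.ofFinite G
  by_contra hne
  have hg1 : g ≠ 1 := fun h => by
    rw [h, orderOf_one, Nat.dvd_one] at hg
    exact hp.out.ne_one hg
  have hp3 : 3 ≤ p := by have := hp.out.two_le; omega
  obtain ⟨s, hs⟩ : Odd p := hp.out.odd_of_ne_two hp2
  set q := p ^ 2 with hq
  have hq4 : q % 4 = 1 := by
    rw [hq, hs, show (2 * s + 1) ^ 2 = 4 * (s ^ 2 + s) + 1 by ring]
    omega
  have hq9 : 9 ≤ q := by rw [hq]; exact (show 3 ^ 2 ≤ p ^ 2 from Nat.pow_le_pow_left hp3 2)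
  have hsq : q ^ 2 - 1 = (q + 1) * (q - 1) := by simpa using Nat.sq_sub_sq q 1
  rw [hsq] at hcard
  have hh : 2 * ((q + 1) / 2) = q + 1 := by omega
  have hhd : (q + 1) / 2 ∣ q + 1 := ⟨2, by omega⟩
  have hG : Nat.card G = q * ((q + 1) / 2) * (q - 1) := by
    refine Nat.eq_of_mul_eq_mul_right two_pos ?_
    rw [hcard]
    conv_lhs => rw [← hh]
    ring
  have hpG : ∀ χ : IrrCharacter G, charDegree (χ : G → ℂ) = q → (χ : G → ℂ) g = 0 := by
    intro χ hχ
    refine Chars.Brauer.eq_zero_of_defect_zero hp.out χ (a := 2) (m := ((q + 1) / 2) * (q - 1))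
      (by rw [hG, mul_assoc]) ?_ (by rw [hχ]) hg
    intro hd
    have hpq : p ∣ q := hq ▸ dvd_pow_self p two_ne_zero
    rcases hp.out.dvd_mul.1 hd with h | h
    · have h1 : p ∣ q + 1 := h.trans hhd
      exact hp.out.not_dvd_one ((Nat.dvd_add_right hpq).1 h1)
    · have h1 := Nat.dvd_sub hpq h
      rw [show q - (q - 1) = 1 by omega] at h1
      exact hp.out.not_dvd_one h1
  obtain ⟨a, m, hm, hGm⟩ := Nat.exists_eq_pow_mul_and_not_dvd (Nat.card_pos (α := G)).ne' r hr.ne_one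
  have hrq : ¬ r ∣ q := fun h => hne ((Nat.prime_dvd_prime_iff_eq hr hp.out).1 (hr.dvd_of_dvd_pow h))
  have hkill : ∀ χ : IrrCharacter G, r ^ a ∣ charDegree (χ : G → ℂ) → (χ : G → ℂ) g = 0 :=
    fun χ h => Chars.Brauer.eq_zero_of_defect_zero hr χ hGm hm h hrg
  by_cases hrh : r ∣ (q + 1) / 2
  · have hr1 : ¬ r ∣ q - 1 := by
      intro h
      have h1 : r ∣ (q + 1) - (q - 1) := Nat.dvd_sub (hrh.trans hhd) h
      rw [show q + 1 - (q - 1) = 2 by omega, Nat.prime_dvd_prime_iff_eq hr Nat.prime_two] at h1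
      subst h1
      omega
    have hdvd : r ^ a ∣ (q + 1) / 2 := by
      refine Nat.Coprime.dvd_of_dvd_mul_right ?_ (show r ^ a ∣ ((q + 1) / 2) * (q * (q - 1)) from
        Dvd.intro m (by rw [← hGm, hG]; ring))
      exact ((hr.coprime_iff_not_dvd.2 hrq).mul_right (hr.coprime_iff_not_dvd.2 hr1)).pow_left a
    refine hg1 (eq_one_of_vanish_or_dvd (k := q - 1) (by omega) fun χ hχ => ?_)
    have hd := hdeg χ
    simp only [Finset.mem_insert, Finset.mem_singleton] at hd
    rcases hd with h | h | h | h | h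
    · exact absurd (hlin χ h) hχ
    · exact Or.inl (hpG χ h)
    · exact Or.inl (hkill χ (h ▸ hdvd.trans hhd))
    · exact Or.inr (h ▸ dvd_rfl)
    · exact Or.inl (hkill χ (h ▸ hdvd))
  · have hdvd : r ^ a ∣ q - 1 := by
      refine Nat.Coprime.dvd_of_dvd_mul_left ?_ (show r ^ a ∣ (q * ((q + 1) / 2)) * (q - 1) from
        Dvd.intro m (by rw [← hGm, hG]))
      exact ((hr.coprime_iff_not_dvd.2 hrq).mul_right (hr.coprime_iff_not_dvd.2 hrh)).pow_left a
    refine hg1 (eq_one_of_vanish_or_dvd (k := (q + 1) / 2) (by omega) fun χ hχ => ?_)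
    have hd := hdeg χ
    simp only [Finset.mem_insert, Finset.mem_singleton] at hd
    rcases hd with h | h | h | h | h
    · exact absurd (hlin χ h) hχ
    · exact Or.inl (hpG χ h)
    · exact Or.inr (h ▸ hhd)
    · exact Or.inl (hkill χ (h ▸ hdvd))
    · exact Or.inr (h ▸ dvd_rfl)

end Degrees

end CfsgLib.PSL2Spectrum
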