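import Cfsg.Agent.Frobenius.FPF
import Cfsg.Agent.Frobenius.CyclicSylow

/-!
# Groups in which every `p`-singular element has order `p`

The normalizer of a nontrivial `p`-subgroup is `p`-closed, hence Sylow `p`-subgroups meet trivially.
-/

set_option autoImplicit false

namespace CfsgLib.PSL2Spectrum

variable {G : Type*} [Group G] {p : ℕ} [hp : Fact p.Prime]

/-- `p`-closed: the `p`-elements form a subgroup. -/
def PClosed (p : ℕ) (G : Type*) [Group G] : Prop :=
  ∃ T : Subgroup G, ∀ x : G, x ∈ T ↔ ∃ k : ℕ, x ^ p ^ k = 1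

theorem no_commute {u h : G} (hC : ∀ g : G, p ∣ orderOf g → orderOf g = p) (hu : u ^ p = 1) (hu1 : u ≠ 1)
    (hcom : Commute u h) (hh : ¬ p ∣ orderOf h) : h = 1 := by
  have ho : orderOf u = p := orderOf_eq_prime hu hu1
  have h1 := hcom.orderOf_mul_eq_mul_orderOf_of_coprime
    (by rw [ho]; exact (Nat.Prime.coprime_iff_not_dvd hp.out).2 hh)
  rw [ho] at h1
  have h2 := hC (u * h) (h1 ▸ dvd_mul_right p _)
  rw [h1] at h2
  exact orderOf_eq_one_iff.1 ((Nat.mul_eq_left hp.out.ne_zero).1 h2)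

theorem pow_p_of_pow_pow [Finite G] {x : G} (hC : ∀ g : G, p ∣ orderOf g → orderOf g = p) {k : ℕ}
    (hx : x ^ p ^ k = 1) : x ^ p = 1 := by
  obtain ⟨j, -, hj⟩ := (Nat.dvd_prime_pow hp.out).1 (orderOf_dvd_of_pow_eq_one hx)
  rcases j with _ | j
  · rw [pow_zero, orderOf_eq_one_iff] at hj; rw [hj, one_pow]
  · rw [← hC x (by rw [hj]; exact dvd_pow_self p j.succ_ne_zero), pow_orderOf_eq_one]

theorem pow_p_of_dvd [Finite G] {x : G} (hC : ∀ g : G, p ∣ orderOf g → orderOf g = p)
    (hx : p ∣ orderOf x) : x ^ p = 1 := by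
  rw [← hC x hx, pow_orderOf_eq_one]

theorem mul_pow_conj (v g : G) (n : ℕ) :
    (v * g) ^ n = ((List.range n).map fun j => g ^ j * v * (g ^ j)⁻¹).prod * g ^ n := by
  induction n with
  | zero => simp
  | succ n ih =>
    rw [pow_succ, ih, List.range_succ, List.map_append, List.prod_append]
    simp only [List.map_cons, List.map_nil, List.prod_cons, List.prod_nil, mul_one]
    rw [pow_succ g n]
    group

theorem pow_eq_one_of_mem_zpowers {x y : G} {r : ℕ} (hx : orderOf x = r) (h : y ∈ Subgroup.zpowers x) :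
    y ^ r = 1 :=
  orderOf_dvd_iff_pow_eq_one.1 (hx ▸ orderOf_dvd_of_mem_zpowers h)

/-- In a cyclic group there is only one subgroup of each prime order. -/
theorem mem_zpowers_of_orderOf_eq {C : Type*} [Group C] [Finite C] [IsCyclic C] {x y : C} {r : ℕ} (hr : 0 < r)
    (hx : orderOf x = r) (hy : y ^ r = 1) : y ∈ Subgroup.zpowers x := by
  classical
  haveI := Fintype.ofFinite C
  have hsub : (Finset.univ.filter fun z : C => z ∈ Subgroup.zpowers x) ⊆ Finset.univ.filter fun z : C => z ^ r = 1 := by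
    intro z hz
    simp only [Finset.mem_filter, Finset.mem_univ, true_and] at hz ⊢
    exact pow_eq_one_of_mem_zpowers hx hz
  have hc : (Finset.univ.filter fun z : C => z ∈ Subgroup.zpowers x).card = r := by
    rw [← Fintype.card_subtype, ← Nat.card_eq_fintype_card, ← hx, ← Nat.card_zpowers]
  have heq := Finset.eq_of_subset_of_card_le hsub (by rw [hc]; exact IsCyclic.card_pow_eq_one_le hr)
  have h9 : y ∈ Finset.univ.filter fun z : C => z ∈ Subgroup.zpowers x := by rw [heq]; simpa using hy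
  simpa using h9

section Kernel

variable {V : Type*} [CommGroup V] [Finite V] {W : Type*} [Group W]

omit [Finite V] in
/-- The averaging argument: a Frobenius group of order `pr` has no faithful module of exponent prime to `r`
on which the complement has trivial norm and the kernel is fixed point free. -/
theorem false_of_norm {r : ℕ} [hr : Fact r.Prime] (ψ : W →* MulAut V) {x u : W} (hx : orderOf x = r)
    (hu : u ^ p = 1) (hnorm : ∀ v : V, ∏ j ∈ Finset.range p, ψ (u ^ j) v = 1)
    (hfix : ∀ y ∈ Subgroup.zpowers x, y ≠ 1 → ∀ v : V, ψ y v = v → v = 1)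
    (hnorme : u * x * u⁻¹ ∈ Subgroup.zpowers x)
    (hnc : ∀ j : ℕ, 0 < j → j < p → ¬ Commute (u ^ j) x) {v₀ : V} (hv₀ : v₀ ≠ 1) (hvp : v₀ ^ p = 1)
    (hrp : r ≠ p) : False := by
  have hzj : ∀ j : ℕ, u ^ j * x * (u ^ j)⁻¹ ∈ Subgroup.zpowers x := by
    intro j
    induction j with
    | zero => simp
    | succ j ih =>
      obtain ⟨a, ha⟩ := Subgroup.mem_zpowers_iff.1 ih
      have : u ^ (j + 1) * x * (u ^ (j + 1))⁻¹ = (u * x * u⁻¹) ^ a := by
        rw [conj_zpow, ha, pow_succ']; group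
      rw [this]
      exact zpow_mem hnorme a
  -- the term for one `j`
  have hterm : ∀ j ∈ Finset.range p, j ≠ 0 → ∀ w : V,
      ∏ i ∈ Finset.range r, ψ (x ^ i * u ^ j * (x ^ i)⁻¹) w = 1 := by
    intro j hj hj0 w
    set y := x * (u ^ j * x * (u ^ j)⁻¹)⁻¹ with hy
    have hymem : y ∈ Subgroup.zpowers x := mul_mem (Subgroup.mem_zpowers x) (inv_mem (hzj j))
    have hy1 : y ≠ 1 := fun h => hnc j (Nat.pos_of_ne_zero hj0) (Finset.mem_range.1 hj) (by
      have h9 := mul_inv_eq_one.1 h
      exact (mul_inv_eq_iff_eq_mul.1 h9.symm))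
    have hcx : Commute x (u ^ j * x⁻¹ * (u ^ j)⁻¹) := by
      obtain ⟨a, ha⟩ := Subgroup.mem_zpowers_iff.1 (hzj j)
      rw [show u ^ j * x⁻¹ * (u ^ j)⁻¹ = (u ^ j * x * (u ^ j)⁻¹)⁻¹ by group, ← ha]
      exact ((Commute.refl x).zpow_right a).inv_right
    have hconj : ∀ i : ℕ, x ^ i * u ^ j * (x ^ i)⁻¹ = y ^ i * u ^ j := by
      intro i
      rw [hy, show (u ^ j * x * (u ^ j)⁻¹)⁻¹ = u ^ j * x⁻¹ * (u ^ j)⁻¹ by group, hcx.mul_pow, conj_pow, inv_pow]
      group
    simp only [hconj, map_mul, MulAut.mul_apply]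
    have hyr : y ^ r = 1 := pow_eq_one_of_mem_zpowers hx hymem
    refine hfix y hymem hy1 _ ?_
    rw [map_prod]
    have h1 := Finset.prod_range_succ' (fun i => ψ (y ^ i) (ψ (u ^ j) w)) r
    rw [Finset.prod_range_succ, hyr, pow_zero] at h1
    refine ((mul_right_cancel h1).trans ?_).symm
    refine Finset.prod_congr rfl fun i _ => ?_
    simp only [pow_succ', map_mul, MulAut.mul_apply]
  have h1 : ∏ i ∈ Finset.range r, ∏ j ∈ Finset.range p, ψ (x ^ i * u ^ j * (x ^ i)⁻¹) v₀ = 1 := by
    refine Finset.prod_eq_one fun i _ => ?_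
    have : ∏ j ∈ Finset.range p, ψ (x ^ i * u ^ j * (x ^ i)⁻¹) v₀ =
        ψ (x ^ i) (∏ j ∈ Finset.range p, ψ (u ^ j) (ψ (x ^ i)⁻¹ v₀)) := by
      rw [map_prod]
      refine Finset.prod_congr rfl fun j _ => ?_
      rw [map_mul, map_mul]
      rfl
    rw [this, hnorm, map_one]
  rw [Finset.prod_comm, Finset.prod_eq_single_of_mem 0 (Finset.mem_range.2 hp.out.pos)
    (fun j hj hj0 => hterm j hj hj0 v₀)] at h1
  simp only [pow_zero, mul_one, mul_inv_cancel, map_one, MulAut.one_apply, Finset.prod_const,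
    Finset.card_range] at h1
  apply hv₀
  have ho : orderOf v₀ = p := orderOf_eq_prime hvp hv₀
  have h2 := orderOf_dvd_of_pow_eq_one h1
  rw [ho] at h2
  exact absurd ((Nat.prime_dvd_prime_iff_eq hp.out hr.out).1 h2) hrp.symm

end Kernel

/-- Either `W` is `p`-closed or some element of order `p` normalises a subgroup of prime order `r ≠ p`,
provided the Sylow subgroups for primes different from `p` are cyclic. -/
theorem pClosed_or_exists_normalizing : ∀ (n : ℕ) (W : Type*) [Group W] [Finite W], Nat.card W = n →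
    (∀ (r : ℕ), r.Prime → r ≠ p → ∀ R : Subgroup W, IsPGroup r R → IsCyclic R) →
    PClosed p W ∨ ∃ (u x : W) (r : ℕ), r.Prime ∧ r ≠ p ∧ orderOf u = p ∧ orderOf x = r ∧
      u * x * u⁻¹ ∈ Subgroup.zpowers x := by
  intro n
  induction n using Nat.strong_induction_on with
  | _ n ih =>
    intro W _ _ hn hcyc
    classical
    by_cases hall : ∀ r : ℕ, r.Prime → r ∣ Nat.card W → r = p
    · refine Or.inl ⟨⊤, fun x => iff_of_true trivial ?_⟩
      have hP : IsPGroup p W := IsPGroup.of_card (n := (Nat.card W).primeFactorsList.length)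
        (Nat.eq_prime_pow_of_unique_prime_dvd Nat.card_pos.ne' fun {d} hd hdvd => hall d hd hdvd)
      exact hP x
    have hex : ∃ r, r.Prime ∧ r ∣ Nat.card W ∧ r ≠ p := by
      push Not at hall
      exact hall
    obtain ⟨hr, hrW, hrp⟩ := Nat.find_spec hex
    set r := Nat.find hex with hrdef
    have hmin : ∀ s, s.Prime → s ∣ Nat.card W → s ≠ p → r ≤ s := fun s h1 h2 h3 =>
      Nat.find_min' hex ⟨h1, h2, h3⟩
    haveI : Fact r.Prime := ⟨hr⟩
    obtain ⟨R⟩ := Sylow.nonempty (p := r) (G := W)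
    have hRc : IsCyclic (R : Subgroup W) := hcyc r hr hrp _ R.2
    set N := Subgroup.normalizer ((R : Subgroup W) : Set W) with hN
    by_cases hpN : p ∣ Nat.card N
    · obtain ⟨u, hu⟩ := exists_prime_orderOf_dvd_card' (G := N) p hpN
      obtain ⟨x, hx⟩ := exists_prime_orderOf_dvd_card' (G := (R : Subgroup W)) r (R.dvd_card_of_dvd_card hrW)
      refine Or.inr ⟨(u : W), (x : W), r, hr, hrp, by rwa [Subgroup.orderOf_coe], by rwa [Subgroup.orderOf_coe], ?_⟩
      have hmem : (u : W) * x * (u : W)⁻¹ ∈ (R : Subgroup W) :=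
        (Subgroup.mem_normalizer_iff.1 u.2 (x : W)).1 x.2
      set y : (R : Subgroup W) := ⟨_, hmem⟩ with hy
      haveI := hRc
      have hz : y ∈ Subgroup.zpowers x := mem_zpowers_of_orderOf_eq hr.pos hx (Subtype.ext (by
        rw [Subgroup.coe_pow, hy, conj_pow, ← Subgroup.coe_pow,
          (congrArg (x ^ ·) hx.symm).trans (pow_orderOf_eq_one x), OneMemClass.coe_one,
          mul_one, mul_inv_cancel]))
      obtain ⟨a, ha⟩ := Subgroup.mem_zpowers_iff.1 hz
      exact Subgroup.mem_zpowers_iff.2 ⟨a, by simpa [hy] using congrArg Subtype.val ha⟩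
    · -- `N(R) ≤ C(R)`: Burnside transfer
      have hRN : (R : Subgroup W) ≤ N := Subgroup.le_normalizer
      let R' : Sylow r N := R.subtype hRN
      have hrN : r ∣ Nat.card N := (R.dvd_card_of_dvd_card hrW).trans (Subgroup.card_dvd_of_le hRN)
      have hminN : (Nat.card N).minFac = r := by
        have h1N : Nat.card N ≠ 1 := fun h => hr.ne_one (Nat.dvd_one.1 (h ▸ hrN))
        refine le_antisymm (Nat.minFac_le_of_dvd hr.two_le hrN) (hmin _ (Nat.minFac_prime h1N) ?_ ?_)
        · exact (Nat.minFac_dvd _).trans N.card_subgroup_dvd_card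
        · exact fun h => hpN (h ▸ Nat.minFac_dvd _)
      have hRc' : IsCyclic (R' : Subgroup N) := by
        haveI := hRc
        exact isCyclic_of_surjective (Subgroup.subgroupOfEquivOfLe hRN).symm
          (Subgroup.subgroupOfEquivOfLe hRN).symm.surjective
      have hnc := IsCyclic.normalizer_le_centralizer hminN (P := R') hRc'
      have hle : Subgroup.normalizer ((R : Subgroup W) : Set W) ≤ Subgroup.centralizer ((R : Subgroup W) : Set W) := by
        intro g hg
        rw [Subgroup.mem_centralizer_iff]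
        intro z hz
        have hg' : (⟨g, hg⟩ : N) ∈ Subgroup.normalizer ((R' : Subgroup N) : Set N) := by
          rw [Subgroup.mem_normalizer_iff]
          intro h
          exact Subgroup.mem_normalizer_iff.1 hg (h : W)
        exact congrArg Subtype.val (Subgroup.mem_centralizer_iff.1 (hnc hg') (⟨z, hRN hz⟩ : N) hz)
      set K := (MonoidHom.transferSylow R hle).ker with hK
      have hrK : ¬ r ∣ Nat.card K := MonoidHom.not_dvd_card_ker_transferSylow R hle
      have hcompl := MonoidHom.ker_transferSylow_isComplement' R hle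
      have hKlt : Nat.card K < n := by
        rw [← hn, ← hcompl.card_mul]
        exact lt_mul_of_one_lt_right Nat.card_pos
          (lt_of_lt_of_le hr.one_lt (Nat.le_of_dvd Nat.card_pos (R.dvd_card_of_dvd_card hrW)))
      rcases ih _ hKlt K rfl (fun s hs hsp S hS => by
          have := hcyc s hs hsp (S.map K.subtype) (hS.map K.subtype)
          exact isCyclic_of_surjective (S.equivMapOfInjective _ K.subtype_injective).symm
            (S.equivMapOfInjective _ K.subtype_injective).symm.surjective) with h | ⟨u, x, s, hs, hsp, hu, hx, hux⟩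
      · obtain ⟨T, hT⟩ := h
        refine Or.inl ⟨T.map K.subtype, fun y => ⟨?_, fun ⟨k, hk⟩ => ?_⟩⟩
        · rintro ⟨z, hz, rfl⟩
          obtain ⟨k, hk⟩ := (hT z).1 hz
          exact ⟨k, by rw [← map_pow, hk, map_one]⟩
        · have hyK : y ∈ K := by
            have h1 : MonoidHom.transferSylow R hle y = 1 := by
              rw [← orderOf_eq_one_iff]
              have h2 : orderOf (MonoidHom.transferSylow R hle y) ∣ p ^ k :=
                orderOf_dvd_of_pow_eq_one (by rw [← map_pow, hk, map_one])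
              obtain ⟨j, hj⟩ := R.2 (MonoidHom.transferSylow R hle y)
              exact Nat.eq_one_of_dvd_coprimes
                (Nat.Coprime.pow _ _ ((Nat.coprime_primes hp.out hr).2 hrp.symm)) h2 (orderOf_dvd_of_pow_eq_one hj)
            exact h1
          exact ⟨⟨y, hyK⟩, (hT _).2 ⟨k, Subtype.ext hk⟩, rfl⟩
      · refine Or.inr ⟨(u : W), (x : W), s, hs, hsp, by rwa [Subgroup.orderOf_coe], by rwa [Subgroup.orderOf_coe], ?_⟩
        obtain ⟨a, ha⟩ := Subgroup.mem_zpowers_iff.1 hux
        exact Subgroup.mem_zpowers_iff.2 ⟨a, by simpa using congrArg Subtype.val ha⟩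

/-- A group with a nontrivial normal `p`-subgroup is `p`-closed. -/
theorem pClosed_of_normal_pGroup [Finite G] (hp2 : p ≠ 2) (hC : ∀ g : G, p ∣ orderOf g → orderOf g = p)
    (D : Subgroup G) [D.Normal] (hD : IsPGroup p D) (hD1 : D ≠ ⊥) : PClosed p G := by
  classical
  set V : Subgroup G := (Subgroup.center D).map D.subtype with hVdef
  have hVn : V.Normal := by rw [hVdef]; exact ConjAct.normal_of_characteristic_of_normal
  haveI := hVn
  letI : CommGroup V := { (inferInstance : Group V) with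
    mul_comm := fun a b => by
      obtain ⟨a', ha', hae⟩ := a.2
      obtain ⟨b', -, hbe⟩ := b.2
      refine Subtype.ext ?_
      show (a : G) * b = b * a
      rw [← hae, ← hbe, ← map_mul, ← map_mul, Subgroup.mem_center_iff.1 ha' b'] }
  have hVle : V ≤ D := Subgroup.map_subtype_le _
  have hVp : ∀ v : V, v ^ p = 1 := fun v => by
    obtain ⟨k, hk⟩ := hD ⟨v, hVle v.2⟩
    exact Subtype.ext (pow_p_of_pow_pow hC (congrArg Subtype.val hk))
  haveI : Nontrivial D := D.nontrivial_iff_ne_bot.2 hD1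
  haveI : Nontrivial V := by
    have h1 := hD.center_nontrivial
    obtain ⟨z, hz⟩ := exists_ne (1 : Subgroup.center D)
    refine ⟨⟨⟨((z : D) : G), ⟨(z : D), z.2, rfl⟩⟩, 1, fun h => hz ?_⟩⟩
    have h9 : ((z : D) : G) = 1 := congrArg (fun t : V => (t : G)) h
    exact Subtype.ext (Subtype.ext h9)
  obtain ⟨v₀, hv₀⟩ := exists_ne (1 : V)
  let φ : G →* MulAut V := MulAut.conjNormal
  have hcomm : ∀ (g : G) (v : V), φ g v = v → Commute g (v : G) := fun g v h => by
    have h1 := congrArg Subtype.val h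
    simp only [φ, MulAut.conjNormal_apply] at h1
    exact mul_inv_eq_iff_eq_mul.1 h1
  -- elements with a prime divisor `r ≠ p` fix no nontrivial vector
  have hfpf : ∀ (g : G) (r : ℕ), r.Prime → r ≠ p → r ∣ orderOf g → ∀ v : V, φ g v = v → v = 1 := by
    intro g r hr hrp hrg v hv
    by_contra hv1
    have hh : orderOf (g ^ (orderOf g / r)) = r := orderOf_pow_orderOf_div (orderOf_pos g).ne' hrg
    have := no_commute hC (congrArg Subtype.val (hVp v)) (fun h => hv1 (Subtype.ext h))
      ((hcomm g v hv).symm.pow_right (orderOf g / r))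
      (by rw [hh, Nat.prime_dvd_prime_iff_eq hp.out hr]; exact hrp.symm)
    rw [this, orderOf_one] at hh
    exact hr.one_lt.ne hh
  have hker : ∀ g : G, φ g = 1 → ∃ k : ℕ, g ^ p ^ k = 1 := by
    intro g hg
    refine ⟨(orderOf g).primeFactorsList.length, orderOf_dvd_iff_pow_eq_one.1 (Eq.dvd ?_)⟩
    refine Nat.eq_prime_pow_of_unique_prime_dvd (orderOf_pos g).ne' fun {r} hr hrg => ?_
    by_contra hrp
    exact hv₀ (hfpf g r hr hrp hrg v₀ (by rw [hg]; rfl))
  set W := φ.range with hW
  let π : G →* W := φ.rangeRestrict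
  have hπ : Function.Surjective π := φ.rangeRestrict_surjective
  have hWfpf : ∀ (w : W) (r : ℕ), r.Prime → r ≠ p → r ∣ orderOf w → ∀ v : V, (w : MulAut V) v = v → v = 1 := by
    intro w r hr hrp hrw v hv
    obtain ⟨g, rfl⟩ := hπ w
    exact hfpf g r hr hrp (hrw.trans (orderOf_map_dvd π g)) v hv
  have hWC : ∀ w : W, p ∣ orderOf w → orderOf w = p := by
    intro w hw
    obtain ⟨g, rfl⟩ := hπ w
    have h1 : orderOf (π g) ∣ orderOf g := orderOf_map_dvd π g
    rw [hC g (hw.trans h1)] at h1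
    exact Nat.dvd_antisymm h1 hw
  suffices hWc : PClosed p W by
    obtain ⟨T, hT⟩ := hWc
    refine ⟨T.comap π, fun g => ?_⟩
    rw [Subgroup.mem_comap, hT]
    refine ⟨fun ⟨k, hk⟩ => ?_, fun ⟨k, hk⟩ => ⟨k, by rw [← map_pow, hk, map_one]⟩⟩
    rw [← map_pow] at hk
    obtain ⟨j, hj⟩ := hker _ (congrArg Subtype.val hk)
    exact ⟨k + j, by rw [pow_add, pow_mul, hj]⟩
  -- if `|W|` is even there is a central involution
  by_cases hpW : p ∣ Nat.card W
  swap
  · refine ⟨⊥, fun w => ?_⟩
    rw [Subgroup.mem_bot]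
    refine ⟨fun h => ⟨0, by rw [h, one_pow]⟩, fun ⟨k, hk⟩ => ?_⟩
    rw [← orderOf_eq_one_iff]
    exact Nat.eq_one_of_dvd_coprimes
      (((Nat.Prime.coprime_iff_not_dvd hp.out).2 hpW).pow_left k) (orderOf_dvd_of_pow_eq_one hk)
      (orderOf_dvd_natCard w)
  by_cases h2 : 2 ∣ Nat.card W
  · exfalso
    obtain ⟨z, hz⟩ := exists_prime_orderOf_dvd_card' (G := W) 2 h2
    have hinv : ∀ y : W, orderOf y = 2 → ∀ v : V, (y : MulAut V) v = v⁻¹ := by
      intro y hy v
      refine eq_inv_of_mul_eq_one_left ?_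
      refine hWfpf y 2 Nat.prime_two (Ne.symm hp2) (by rw [hy]) _ ?_
      rw [map_mul, ← MulAut.mul_apply, ← Subgroup.coe_mul, ← pow_two, ← hy, pow_orderOf_eq_one, mul_comm]
      rfl
    have hzc : ∀ w : W, Commute w z := by
      intro w
      refine mul_inv_eq_iff_eq_mul.1 (Subtype.ext (MulEquiv.ext fun v => ?_))
      rw [hinv (w * z * w⁻¹) (by rw [← MulAut.conj_apply, MulEquiv.orderOf_eq, hz]), hinv z hz]
    obtain ⟨u, hu⟩ := exists_prime_orderOf_dvd_card' (G := W) p hpW
    have h1 := (hzc u).orderOf_mul_eq_mul_orderOf_of_coprime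
      (by rw [hu, hz]; exact (Nat.coprime_primes hp.out Nat.prime_two).2 hp2)
    rw [hu, hz] at h1
    have h3 := hWC _ (h1 ▸ dvd_mul_right p 2)
    rw [h1] at h3
    have := hp.out.pos
    omega
  rcases pClosed_or_exists_normalizing (p := p) _ W rfl (fun r hr hrp R hR => by
      haveI : Fact r.Prime := ⟨hr⟩
      by_cases hRb : R = ⊥
      · subst hRb; infer_instance
      have hR2 : r ≠ 2 := by
        rintro rfl
        obtain ⟨k, hk⟩ := hR.exists_card_eq
        apply h2
        refine (?_ : 2 ∣ Nat.card R).trans R.card_subgroup_dvd_card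
        rw [hk]
        exact dvd_pow_self 2 (fun h => hRb (Subgroup.card_eq_one.1 (by rw [hk, h, pow_zero])))
      refine CfsgLib.Frobenius.isCyclic_of_odd_pGroup hR2 hR fun B hB =>
        CfsgLib.Frobenius.FPF.isCyclic_of_comm (φ := (φ.range.subtype.comp R.subtype : R →* MulAut V))
          (fun a ha v hv => ?_) B hB
      obtain ⟨k, hk⟩ := hR a
      have ho : orderOf (a : W) ≠ 1 := by simpa [orderOf_eq_one_iff] using ha
      have hdvd : orderOf (a : W) ∣ r ^ k := orderOf_dvd_of_pow_eq_one (by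
        simpa using congrArg Subtype.val hk)
      refine hWfpf (a : W) r hr hrp ?_ v hv
      obtain ⟨j, -, hj⟩ := (Nat.dvd_prime_pow hr).1 hdvd
      rw [hj]
      exact dvd_pow_self r (fun h => ho (by rw [hj, h, pow_zero]))) with h | ⟨u, x, r, hr, hrp, hu, hx, hux⟩
  · exact h
  exfalso
  haveI : Fact r.Prime := ⟨hr⟩
  refine false_of_norm (p := p) φ.range.subtype hx (by rw [← hu, pow_orderOf_eq_one]) ?_ ?_ hux ?_ hv₀ (hVp v₀) hrp
  · intro v
    obtain ⟨g, hg⟩ := hπ u
    have hgp : p ∣ orderOf g := by rw [← hu, ← hg]; exact orderOf_map_dvd π g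
    have hg' : g ^ p = 1 := pow_p_of_dvd hC hgp
    have hvg : ((v : G) * g) ^ p = 1 := by
      have hm : π ((v : G) * g) = u := by
        rw [map_mul, hg]
        refine mul_eq_right.2 (Subtype.ext (MulEquiv.ext fun w => Subtype.ext ?_))
        show (v : G) * w * (v : G)⁻¹ = w
        rw [mul_inv_eq_iff_eq_mul]
        exact congrArg Subtype.val (mul_comm v w)
      refine pow_p_of_dvd hC ?_
      rw [← hu, ← hm]; exact orderOf_map_dvd π _
    rw [mul_pow_conj, hg', mul_one] at hvg
    refine Subtype.ext ?_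
    rw [Finset.prod_eq_multiset_prod, Finset.range_val, ← Multiset.coe_range, Multiset.map_coe, Multiset.prod_coe,
      Subgroup.val_list_prod, List.map_map, OneMemClass.coe_one]
    refine Eq.trans ?_ hvg
    congr 1
    refine List.map_congr_left fun j _ => ?_
    have : (φ.range.subtype (u ^ j)) = φ (g ^ j) := by
      rw [← hg, ← map_pow]; rfl
    simp only [Function.comp_apply, this, φ, MulAut.conjNormal_apply]
  · intro y hy hy1 v hv
    refine hWfpf y r hr hrp ?_ v hv
    rw [orderOf_eq_prime (pow_eq_one_of_mem_zpowers hx hy) hy1]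
  · intro j hj hjp hc
    have hj' : orderOf (u ^ j) = p := by
      rw [Nat.Coprime.orderOf_pow]
      · exact hu
      rw [hu]
      exact (Nat.Prime.coprime_iff_not_dvd hp.out).2 (Nat.not_dvd_of_pos_of_lt hj hjp)
    have h1 := hc.orderOf_mul_eq_mul_orderOf_of_coprime
      (by rw [hj', hx]; exact (Nat.coprime_primes hp.out hr).2 hrp.symm)
    rw [hj', hx] at h1
    have h3 := hWC _ (h1 ▸ dvd_mul_right p r)
    rw [h1] at h3
    exact hr.one_lt.ne' ((Nat.mul_eq_left hp.out.ne_zero).1 h3)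

/-- Distinct Sylow `p`-subgroups meet trivially. -/
theorem sylow_inf_eq_bot [Finite G] (hp2 : p ≠ 2) (hC : ∀ g : G, p ∣ orderOf g → orderOf g = p)
    {P Q : Sylow p G} (hPQ : P ≠ Q) : (P : Subgroup G) ⊓ (Q : Subgroup G) = ⊥ := by
  by_contra hne
  obtain ⟨⟨A, B⟩, ⟨hAB, hne'⟩, hmax⟩ := Set.exists_max_image
    {x : Sylow p G × Sylow p G | x.1 ≠ x.2 ∧ (x.1 : Subgroup G) ⊓ (x.2 : Subgroup G) ≠ ⊥}
    (fun x => Nat.card ((x.1 : Subgroup G) ⊓ (x.2 : Subgroup G) : Subgroup G)) (Set.toFinite _)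
    ⟨(P, Q), hPQ, hne⟩
  simp only at hAB hne' hmax
  set D : Subgroup G := (A : Subgroup G) ⊓ (B : Subgroup G) with hD
  set N := Subgroup.normalizer (D : Set G) with hN
  have hDN : D ≤ N := Subgroup.le_normalizer
  haveI : (D.subgroupOf N).Normal := Subgroup.normal_in_normalizer
  obtain ⟨T, hT⟩ := pClosed_of_normal_pGroup (G := N) hp2
    (fun g hg => by rw [← Subgroup.orderOf_coe] at hg ⊢; exact hC _ hg)
    (D.subgroupOf N) ((A.2.to_le inf_le_left).of_equiv (Subgroup.subgroupOfEquivOfLe hDN).symm)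
    (fun h => hne' (by
      have := congrArg (Subgroup.map N.subtype) h
      rwa [Subgroup.subgroupOf_map_subtype, inf_of_le_left hDN, Subgroup.map_bot] at this))
  have hTp : IsPGroup p T := fun t => by
    obtain ⟨k, hk⟩ := (hT t).1 t.2
    exact ⟨k, Subtype.ext hk⟩
  obtain ⟨R, hR⟩ := (hTp.map N.subtype).exists_le_sylow
  have key : ∀ X : Sylow p G, D ≤ X → D ≠ X → R = X := by
    intro X hDX hDne
    by_contra hRX
    have hlt : D < (R : Subgroup G) ⊓ X := by
      haveI : Group.IsNilpotent (X : Subgroup G) := X.2.isNilpotent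
      have h1 : D.subgroupOf (X : Subgroup G) < ⊤ := lt_top_iff_ne_top.2 fun h =>
        hDne (le_antisymm hDX (Subgroup.subgroupOf_eq_top.1 h))
      obtain ⟨y, hy, hyD⟩ := SetLike.exists_of_lt (Group.normalizerCondition_of_isNilpotent _ h1)
      have hyN : (y : G) ∈ N := by
        rw [hN, Subgroup.mem_normalizer_iff]
        intro z
        constructor <;> intro hz
        · exact (Subgroup.mem_normalizer_iff.1 hy ⟨z, hDX hz⟩).1 hz
        · have hzX : z ∈ (X : Subgroup G) := by
            simpa [mul_assoc] using mul_mem (mul_mem (inv_mem y.2) (hDX hz)) y.2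
          exact (Subgroup.mem_normalizer_iff.1 hy ⟨z, hzX⟩).2 hz
      have hyR : (y : G) ∈ (R : Subgroup G) := by
        obtain ⟨k, hk⟩ := X.2 y
        exact hR ⟨⟨y, hyN⟩, (hT _).2 ⟨k, Subtype.ext (congrArg Subtype.val hk :)⟩, rfl⟩
      refine lt_of_le_not_ge (fun d hd => ⟨?_, hDX hd⟩) fun h => hyD (h ⟨hyR, y.2⟩)
      obtain ⟨k, hk⟩ := A.2 ⟨d, hd.1⟩
      exact hR ⟨⟨d, hDN hd⟩, (hT _).2 ⟨k, Subtype.ext (congrArg Subtype.val hk :)⟩, rfl⟩
    have hpos : ((R : Subgroup G) ⊓ X : Subgroup G) ≠ ⊥ := fun h => hne' (le_bot_iff.1 (h ▸ hlt.le))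
    have := hmax (R, X) ⟨hRX, hpos⟩
    exact absurd (Subgroup.eq_of_le_of_card_ge hlt.le this) hlt.ne
  have hA : D ≠ A := fun h => hAB (Sylow.ext (A.3 B.2 (h ▸ inf_le_right)).symm)
  have hB : D ≠ B := fun h => hAB (Sylow.ext (B.3 A.2 (h ▸ inf_le_left)))
  exact hAB ((key A inf_le_left hA).symm.trans (key B inf_le_right hB))

end CfsgLib.PSL2Spectrum
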