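import Cfsg.Agent.PSL2Spectrum.Local
import Cfsg.Agent.S0731
import Cfsg.Agent.PermGroups.RegularNormal

/-!
# A group with order and element orders of `PSL(2,q)`, `q` odd, is a Zassenhaus group on its Sylow `p`-subgroups
-/

set_option autoImplicit false

namespace CfsgLib.PSL2Spectrum

open Cfsg

/-- The order of a group acting freely divides the number of points. -/
theorem dvd_card_of_free {A X : Type*} [Group A] [Finite A] [MulAction A X] [Finite X]
    (h : ∀ (a : A) (x : X), a • x = x → a = 1) : Nat.card A ∣ Nat.card X := by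
  rw [Nat.card_congr (MulAction.selfEquivOrbitsQuotientProd fun x : X =>
    (Subgroup.eq_bot_iff_forall _).2 fun a ha => h a x ha), Nat.card_prod]
  exact dvd_mul_left _ _

variable {G : Type*} [Group G] [Finite G] {p : ℕ} [hp : Fact p.Prime]

theorem mem_of_smul_eq {P : Sylow p G} {g : G} (hg : g ^ p = 1) (h : g • P = P) : g ∈ (P : Subgroup G) := by
  have hz : IsPGroup p (Subgroup.zpowers g) := fun x => ⟨1, Subtype.ext (by
    rw [pow_one, Subgroup.coe_pow]
    obtain ⟨a, ha⟩ := Subgroup.mem_zpowers_iff.1 x.2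
    rw [← ha, ← zpow_natCast, ← zpow_mul, mul_comm, zpow_mul, zpow_natCast, hg, one_zpow, OneMemClass.coe_one])⟩
  have hle : Subgroup.zpowers g ⊓ Subgroup.normalizer ((P : Subgroup G) : Set G) ≤ (P : Subgroup G) :=
    (hz.inf_normalizer_sylow P).le.trans inf_le_right
  exact hle ⟨Subgroup.mem_zpowers g, Sylow.smul_eq_iff_mem_normalizer.1 h⟩

theorem semiregular (hp2 : p ≠ 2) (hC : ∀ g : G, p ∣ orderOf g → orderOf g = p) {P Q : Sylow p G}
    (hQ : Q ≠ P) {u : G} (hu : u ∈ (P : Subgroup G)) (h : u • Q = Q) : u = 1 := by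
  have hup : u ^ p = 1 := by
    obtain ⟨k, hk⟩ := P.2 ⟨u, hu⟩
    exact pow_p_of_pow_pow hC (congrArg Subtype.val hk :)
  have h1 : u ∈ (P : Subgroup G) ⊓ (Q : Subgroup G) := ⟨hu, mem_of_smul_eq hup h⟩
  rwa [sylow_inf_eq_bot hp2 hC hQ.symm, Subgroup.mem_bot] at h1

/-- An element fixing two Sylow subgroups is a `p'`-element. -/
theorem not_dvd_of_fix_two (hp2 : p ≠ 2) (hC : ∀ g : G, p ∣ orderOf g → orderOf g = p) {P Q : Sylow p G}
    (hQ : Q ≠ P) {g : G} (hgP : g • P = P) (hgQ : g • Q = Q) (hg : g ≠ 1) : ¬ p ∣ orderOf g := fun h =>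
  hg (semiregular hp2 hC hQ (mem_of_smul_eq (pow_p_of_dvd hC h) hgP) hgQ)

/-- The number of elements of a complement divides the number of nontrivial elements of each invariant
subgroup of the Sylow subgroup. -/
theorem dvd_card_sub_one (hC : ∀ g : G, p ∣ orderOf g → orderOf g = p) (D Z : Subgroup G)
    (hD : (Nat.card D).Coprime p) (hZ : IsPGroup p Z) (hnorm : ∀ g ∈ D, ∀ z ∈ Z, g * z * g⁻¹ ∈ Z) :
    Nat.card D ∣ Nat.card Z - 1 := by
  classical
  haveI := Fintype.ofFinite G
  let X := {z : G // z ∈ Z ∧ z ≠ 1}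
  letI : MulAction D X :=
    { smul := fun a z => ⟨a * z.1 * (a : G)⁻¹, hnorm a a.2 _ z.2.1, fun h => z.2.2 (conj_eq_one_iff.1 h)⟩
      one_smul := fun z => Subtype.ext (by show ((1 : D) : G) * z.1 * ((1 : D) : G)⁻¹ = z.1; simp)
      mul_smul := fun a b z => Subtype.ext (by
        show ((a * b : D) : G) * z.1 * ((a * b : D) : G)⁻¹ = a * (b * z.1 * (b : G)⁻¹) * (a : G)⁻¹
        simp [mul_assoc]) }
  have hX : Nat.card X = Nat.card Z - 1 := by
    have he : Nat.card X = ((Finset.univ.filter fun z : G => z ∈ Z).erase 1).card := by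
      rw [Nat.card_eq_fintype_card, Fintype.card_subtype]
      congr 1
      ext z
      simp [and_comm]
    rw [he, Finset.card_erase_of_mem (by simp), ← Fintype.card_subtype, ← Nat.card_eq_fintype_card]
  rw [← hX]
  refine dvd_card_of_free fun a z h => Subtype.ext ?_
  have hz : (a : G) * z.1 * (a : G)⁻¹ = z.1 := congrArg Subtype.val h
  obtain ⟨k, hk⟩ := hZ ⟨z.1, z.2.1⟩
  refine no_commute hC (pow_p_of_pow_pow hC (congrArg Subtype.val hk :)) z.2.2
    (mul_inv_eq_iff_eq_mul.1 hz).symm fun hdvd => ?_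
  have := hdvd.trans ((Subgroup.orderOf_coe a).symm ▸ orderOf_dvd_natCard a)
  exact hp.out.one_lt.ne' (Nat.eq_one_of_dvd_coprimes hD this dvd_rfl)

variable {q m : ℕ}

theorem card_sylow_eq (hp2 : p ≠ 2) (hq : q = p ^ m) (hm : 0 < m) (hcard : Nat.card G * 2 = q * (q ^ 2 - 1))
    (P : Sylow p G) : Nat.card P = q := by
  have hq2 : 2 ≤ q := hq ▸ hp.out.two_le.trans (Nat.le_self_pow hm.ne' p)
  have h1 : ¬ p ∣ q ^ 2 - 1 := by
    intro h
    have h9 : p ∣ q ^ 2 := hq ▸ dvd_pow (dvd_pow_self p hm.ne') two_ne_zero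
    have : p ∣ q ^ 2 - (q ^ 2 - 1) := Nat.dvd_sub h9 h
    rw [Nat.sub_sub_self (Nat.one_le_pow _ _ (by omega))] at this
    exact hp.out.one_lt.ne' (Nat.dvd_one.1 this)
  have h4 : q ^ 2 - 1 ≠ 0 := by
    have : 2 ^ 2 ≤ q ^ 2 := Nat.pow_le_pow_left hq2 2
    omega
  have h2 : ¬ p ∣ 2 := fun h => hp2 ((Nat.prime_dvd_prime_iff_eq hp.out Nat.prime_two).1 h)
  have h3 := congrArg (fun x => x.factorization p) hcard
  simp only [Nat.factorization_mul Nat.card_pos.ne' two_ne_zero, Nat.factorization_mul (by omega : q ≠ 0) h4,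
    Finsupp.coe_add, Pi.add_apply, Nat.factorization_eq_zero_of_not_dvd h1, Nat.factorization_eq_zero_of_not_dvd h2,
    add_zero] at h3
  rw [hq, Nat.Prime.factorization_pow hp.out, Finsupp.single_eq_same] at h3
  rw [P.card_eq_multiplicity, h3, hq]

/-- Two times the number of Sylow subgroups, and the order of their normalizers. -/
theorem counts (hp2 : p ≠ 2) (hC : ∀ g : G, p ∣ orderOf g → orderOf g = p) (hq : q = p ^ m) (hm : 0 < m)
    (hcard : Nat.card G * 2 = q * (q ^ 2 - 1)) (P : Sylow p G) :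
    Nat.card (Sylow p G) = q + 1 ∧
      ∃ D : Subgroup G, D ≤ Subgroup.normalizer ((P : Subgroup G) : Set G) ∧ 2 * Nat.card D = q - 1 ∧
        (Nat.card D).Coprime p ∧ Nat.card (Subgroup.normalizer ((P : Subgroup G) : Set G)) = q * Nat.card D := by
  classical
  have hPq := card_sylow_eq hp2 hq hm hcard P
  set N := Subgroup.normalizer ((P : Subgroup G) : Set G) with hN
  have hPN : (P : Subgroup G) ≤ N := Subgroup.le_normalizer
  set P' : Subgroup N := (P : Subgroup G).subgroupOf N with hP'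
  haveI : P'.Normal := Subgroup.normal_in_normalizer
  have hP'card : Nat.card P' = q := by
    rw [← hPq]; exact Nat.card_congr (Subgroup.subgroupOfEquivOfLe hPN).toEquiv
  have hidx : ¬ p ∣ P'.index := (P.subtype hPN).not_dvd_index
  have hcop : (Nat.card P').Coprime P'.index := by
    rw [hP'card, hq]
    exact ((Nat.Prime.coprime_iff_not_dvd hp.out).2 hidx).pow_left m
  obtain ⟨D', hD'⟩ := Subgroup.exists_right_complement'_of_coprime hcop
  have hDd : Nat.card (D'.map N.subtype) = Nat.card D' :=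
    Subgroup.card_map_of_injective N.subtype_injective
  have hDi : Nat.card D' = P'.index := hD'.symm.index_eq_card.symm
  have hNcard : Nat.card N = q * Nat.card D' := by rw [← hD'.card_mul, hP'card]
  have hDcop : (Nat.card D').Coprime p := by
    rw [hDi, Nat.coprime_comm]; exact (Nat.Prime.coprime_iff_not_dvd hp.out).2 hidx
  have hdvd : Nat.card D' ∣ q - 1 := by
    rw [← hDd, ← hPq]
    refine dvd_card_sub_one hC _ _ (by rwa [hDd]) P.2 fun g hg z hz => ?_
    exact (Subgroup.mem_normalizer_iff.1 ((Subgroup.map_subtype_le D') hg) z).1 hz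
  have hn : Nat.card (Sylow p G) * Nat.card N = Nat.card G := by
    rw [P.card_eq_index_normalizer]
    exact Subgroup.index_mul_card _
  have hmod : q ∣ Nat.card (Sylow p G) - 1 := by
    letI : MulAction (P : Subgroup G) {Q : Sylow p G // Q ≠ P} :=
      { smul := fun u Q => ⟨(u : G) • Q.1, fun h => Q.2 (by
          have hu : (u : G) • P = P := Sylow.smul_eq_iff_mem_normalizer.2 (hPN u.2)
          exact smul_left_cancel _ (h.trans hu.symm))⟩
        one_smul := fun Q => Subtype.ext (one_smul G Q.1)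
        mul_smul := fun a b Q => Subtype.ext (mul_smul (a : G) (b : G) Q.1) }
    have h1 := dvd_card_of_free (A := (P : Subgroup G)) (X := {Q : Sylow p G // Q ≠ P})
      fun u Q h => Subtype.ext (semiregular hp2 hC Q.2 u.2 (congrArg Subtype.val h))
    rw [hPq] at h1
    haveI := Fintype.ofFinite (Sylow p G)
    rwa [Nat.card_eq_fintype_card (α := {Q : Sylow p G // Q ≠ P}), Fintype.card_subtype_compl,
      Fintype.card_subtype_eq, ← Nat.card_eq_fintype_card (α := Sylow p G)] at h1
  have hq3 : 3 ≤ q := by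
    have := hp.out.two_le
    have h3 : 3 ≤ p := by omega
    exact hq ▸ h3.trans (Nat.le_self_pow hm.ne' p)
  obtain ⟨e, he⟩ := hdvd
  obtain ⟨k, hk⟩ := hmod
  have hpos : 0 < Nat.card (Sylow p G) := Nat.card_pos
  have hq1 : q ^ 2 - 1 = (q - 1) * (q + 1) := by
    obtain ⟨t, rfl⟩ : ∃ t, q = t + 1 := ⟨q - 1, by omega⟩
    simp only [Nat.add_sub_cancel]
    rw [Nat.sub_eq_iff_eq_add (Nat.one_le_pow _ _ (by omega))]
    ring
  rw [← hn, hNcard, hq1, he] at hcard
  have h5 : 2 * Nat.card (Sylow p G) = e * (q + 1) := by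
    refine Nat.eq_of_mul_eq_mul_left (Nat.mul_pos (by omega : 0 < q) (Nat.card_pos (α := D'))) ?_
    linarith [hcard]
  rw [show Nat.card (Sylow p G) = q * k + 1 by omega] at h5 ⊢
  have he2 : e = 2 := by
    have hd1 : 1 ≤ Nat.card D' := Nat.card_pos
    have hele : e ≤ q - 1 := he ▸ Nat.le_mul_of_pos_left e hd1
    rcases lt_trichotomy (2 * k) e with h | h | h
    · exfalso
      have : (2 * k + 1) * q ≤ e * q := Nat.mul_le_mul_right q h
      nlinarith
    · subst h; nlinarith
    · exfalso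
      have : (e + 1) * q ≤ 2 * k * q := Nat.mul_le_mul_right q h
      nlinarith [Nat.sub_add_cancel (by omega : 1 ≤ q)]
  subst he2
  exact ⟨by nlinarith, D'.map N.subtype, Subgroup.map_subtype_le _, by rw [hDd, he, mul_comm],
    by rwa [hDd], by rw [hDd, hNcard]⟩

/-- The group is `PSL(2, K)` for a field with `q` elements; the hypothesis on the orders of the `p'`-elements
is only needed for `q ≡ 3 mod 4`. -/
theorem recognise (hp2 : p ≠ 2) (hC : ∀ g : G, p ∣ orderOf g → orderOf g = p) (hq : q = p ^ m) (hq5 : 5 ≤ q)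
    (hcard : Nat.card G * 2 = q * (q ^ 2 - 1))
    (hE : 4 ∣ q + 1 → ∀ g : G, ¬ p ∣ orderOf g → orderOf g ∣ (q - 1) / 2 ∨ orderOf g ∣ (q + 1) / 2) :
    ∃ (K : Type) (_ : Field K) (_ : Fintype K), ringChar K ≠ 2 ∧
      Nonempty (G ≃* Matrix.ProjectiveSpecialLinearGroup (Fin 2) K) := by
  classical
  have hm : 0 < m := by
    rcases Nat.eq_zero_or_pos m with h | h
    · rw [h, pow_zero] at hq; omega
    · exact h
  have hqodd : Odd q := hq ▸ (hp.out.odd_of_ne_two hp2).pow
  obtain ⟨P⟩ := Sylow.nonempty (p := p) (G := G)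
  have hn : Nat.card (Sylow p G) = q + 1 := (counts hp2 hC hq hm hcard P).1
  have hreg : ∀ (A : Sylow p G) (B C : Sylow p G), B ≠ A → C ≠ A → ∃! u : (A : Subgroup G), (u : G) • B = C := by
    intro A B C hB hC'
    haveI := Fintype.ofFinite (Sylow p G)
    have hA : ∀ u : (A : Subgroup G), (u : G) • B ≠ A := fun u h => hB (smul_left_cancel _
      (h.trans (Sylow.smul_eq_iff_mem_normalizer.2 (Subgroup.le_normalizer u.2)).symm))
    let f : ↥(A : Subgroup G) → {Q : Sylow p G // Q ≠ A} := fun u => ⟨(u : G) • B, hA u⟩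
    have hinj : Function.Injective f := fun u v h => by
      have h1 : ((v⁻¹ * u : (A : Subgroup G)) : G) • B = B := by
        rw [Subgroup.coe_mul, Subgroup.coe_inv, mul_smul, inv_smul_eq_iff]
        exact congrArg Subtype.val h
      exact (inv_mul_eq_one.1 (Subtype.ext (semiregular hp2 hC hB (v⁻¹ * u).2 h1) : v⁻¹ * u = 1)).symm
    have hbij : Function.Bijective f := (Nat.bijective_iff_injective_and_card f).2 ⟨hinj, by
      rw [card_sylow_eq hp2 hq hm hcard A, Nat.card_eq_fintype_card, Fintype.card_subtype_compl,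
        Fintype.card_subtype_eq, ← Nat.card_eq_fintype_card, hn, Nat.add_sub_cancel]⟩
    obtain ⟨u, hu⟩ := hbij.2 ⟨C, hC'⟩
    exact ⟨u, congrArg Subtype.val hu, fun v hv => hinj (Subtype.ext (hv.trans (congrArg Subtype.val hu).symm))⟩
  have h2 : MulAction.IsMultiplyPretransitive G (Sylow p G) 2 :=
    CfsgLib.PermGroups.is_two_pretransitive_of_stabilizer P fun B C hB hC' => by
      obtain ⟨u, hu, -⟩ := hreg P B C hB hC'
      exact ⟨u, Sylow.smul_eq_iff_mem_normalizer.2 (Subgroup.le_normalizer u.2), hu⟩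
  -- an element fixing two points commutes with the element moving one to a third fixed point
  have hfixed : ∀ (A B : Sylow p G) (g : G), A ≠ B → g • A = A → g • B = B → ∀ C : Sylow p G, C ≠ A → C ≠ B →
      g • C = C → g = 1 := by
    intro A B g hAB hgA hgB C hCA hCB hgC
    by_contra hg1
    obtain ⟨u, hu, huniq⟩ := hreg A B C hAB.symm hCA
    have hmem : g * (u : G) * g⁻¹ ∈ (A : Subgroup G) :=
      (Subgroup.mem_normalizer_iff.1 (Sylow.smul_eq_iff_mem_normalizer.1 hgA) _).1 u.2
    have h1 := huniq ⟨_, hmem⟩ (by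
      show (g * (u : G) * g⁻¹) • B = C
      rw [mul_smul, mul_smul, inv_smul_eq_iff.2 hgB.symm, hu, hgC])
    have hcom : Commute (u : G) g := (mul_inv_eq_iff_eq_mul.1 (congrArg Subtype.val h1)).symm
    have hu1 : (u : G) ≠ 1 := fun h => hCB (by rw [← hu, h, one_smul])
    obtain ⟨k, hk⟩ := A.2 u
    exact hg1 (no_commute hC (pow_p_of_pow_pow hC (congrArg Subtype.val hk :)) hu1 hcom
      (not_dvd_of_fix_two hp2 hC hAB.symm hgA hgB hg1))
  haveI : Nontrivial (Sylow p G) := Finite.one_lt_card_iff_nontrivial.1 (by omega)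
  have hfaith : FaithfulSMul G (Sylow p G) := by
    refine ⟨fun {g h} hgh => ?_⟩
    have hk : ∀ Q : Sylow p G, (h⁻¹ * g) • Q = Q := fun Q => by rw [mul_smul, hgh, inv_smul_smul]
    obtain ⟨B, hB⟩ := exists_ne P
    haveI := Fintype.ofFinite (Sylow p G)
    obtain ⟨C, hC'⟩ := Finset.exists_mem_notMem_of_card_lt_card (s := {P, B}) (t := (Finset.univ : Finset (Sylow p G)))
      (by rw [Finset.card_univ, ← Nat.card_eq_fintype_card, hn]; exact (Finset.card_le_two).trans_lt (by omega))
    simp only [Finset.mem_insert, Finset.mem_singleton, not_or] at hC'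
    exact (inv_mul_eq_one.1 (hfixed P B _ hB.symm (hk P) (hk B) C hC'.2.1 hC'.2.2 (hk C))).symm
  have hex : ∃ g : G, g ≠ 1 ∧ ∃ A B : Sylow p G, A ≠ B ∧ g • A = A ∧ g • B = B := by
    by_contra hno
    push Not at hno
    obtain ⟨B, hB⟩ := exists_ne P
    obtain ⟨-, D, hDN, hD2, -, -⟩ := counts hp2 hC hq hm hcard P
    letI : MulAction D {Q : Sylow p G // Q ≠ P} :=
      { smul := fun u Q => ⟨(u : G) • Q.1, fun h => Q.2 (smul_left_cancel _
          (h.trans (Sylow.smul_eq_iff_mem_normalizer.2 (hDN u.2)).symm))⟩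
        one_smul := fun Q => Subtype.ext (one_smul G Q.1)
        mul_smul := fun a b Q => Subtype.ext (mul_smul (a : G) (b : G) Q.1) }
    have h1 := dvd_card_of_free (A := D) (X := {Q : Sylow p G // Q ≠ P}) fun u Q h => by
      by_contra hu
      exact hno u (fun e => hu (Subtype.ext e)) P Q.1 Q.2.symm
        (Sylow.smul_eq_iff_mem_normalizer.2 (hDN u.2)) (congrArg Subtype.val h)
    haveI := Fintype.ofFinite (Sylow p G)
    rw [Nat.card_eq_fintype_card (α := {Q : Sylow p G // Q ≠ P}), Fintype.card_subtype_compl,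
      Fintype.card_subtype_eq, ← Nat.card_eq_fintype_card (α := Sylow p G), hn, Nat.add_sub_cancel] at h1
    have h3 : Nat.card D ∣ q - (q - 1) := Nat.dvd_sub h1 (hD2 ▸ dvd_mul_left _ 2)
    rw [show q - (q - 1) = 1 by omega, Nat.dvd_one] at h3
    omega
  have hnoreg : ∀ N : Subgroup G, N.Normal → MulAction.IsPretransitive N (Sylow p G) →
      ∃ a : Sylow p G, MulAction.stabilizer N a ≠ ⊥ := by
    intro N hNn hNt
    by_contra hno
    push Not at hno
    obtain ⟨hNab, s, j, hs, hj, hsj, hexp⟩ :=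
      CfsgLib.PermGroups.regular_normal_elementary_of_two_transitive h2 (by omega) N hno
    obtain ⟨g, hg1, A, B, hAB, hgA, hgB⟩ := hex
    obtain ⟨⟨n, hnN⟩, hnA⟩ := hNt.exists_smul_eq A B
    replace hnA : n • A = B := hnA
    have hn1 : n ≠ 1 := fun h => hAB (by rw [← hnA, h, one_smul])
    have heq : g * n * g⁻¹ = n := by
      have hfix : n⁻¹ * (g * n * g⁻¹) ∈ N := mul_mem (inv_mem hnN) (hNn.conj_mem n hnN g)
      have hst : (⟨_, hfix⟩ : N) ∈ MulAction.stabilizer N A := by
        show (n⁻¹ * (g * n * g⁻¹)) • A = A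
        rw [mul_smul, mul_smul, mul_smul, inv_smul_eq_iff.2 hgA.symm, hnA, hgB, inv_smul_eq_iff, hnA]
      rw [hno A, Subgroup.mem_bot] at hst
      exact (inv_mul_eq_one.1 (congrArg Subtype.val hst)).symm
    have hs2 : s = 2 := by
      rw [hn] at hsj
      have h9 : 2 ∣ s ^ j := hsj ▸ (hqodd.add_odd odd_one).two_dvd
      exact ((Nat.prime_dvd_prime_iff_eq Nat.prime_two hs).1 (Nat.prime_two.dvd_of_dvd_pow h9)).symm
    subst hs2
    have hn2 : orderOf n = 2 := orderOf_eq_prime (hexp n hnN) hn1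
    have hgp := not_dvd_of_fix_two hp2 hC hAB.symm hgA hgB hg1
    obtain ⟨-, D, -, hD2, hDcop, hNcard⟩ := counts hp2 hC hq hm hcard A
    have hgdvd : orderOf g ∣ Nat.card D := by
      have h1 : orderOf g ∣ Nat.card (Subgroup.normalizer ((A : Subgroup G) : Set G)) := by
        have := orderOf_dvd_natCard
          (⟨g, Sylow.smul_eq_iff_mem_normalizer.1 hgA⟩ : Subgroup.normalizer ((A : Subgroup G) : Set G))
        rwa [← Subgroup.orderOf_coe] at this
      rw [hNcard] at h1
      refine Nat.Coprime.dvd_of_dvd_mul_left ?_ h1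
      rw [hq]
      exact (((Nat.Prime.coprime_iff_not_dvd hp.out).2 hgp).symm).pow_right m
    have h8 : 4 ∣ q + 1 := by
      rw [hn] at hsj
      have : 2 ≤ j := by
        by_contra h
        interval_cases j
        omega
      rw [hsj]
      exact pow_dvd_pow 2 this
    obtain ⟨r, hr, hrg⟩ := Nat.exists_prime_and_dvd (show orderOf g ≠ 1 by simpa [orderOf_eq_one_iff] using hg1)
    have hrD : r ∣ Nat.card D := hrg.trans hgdvd
    have hDodd : ¬ 2 ∣ Nat.card D := by omega
    have hr2 : r ≠ 2 := fun h => hDodd (h ▸ hrD)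
    have ho : orderOf (n * g ^ (orderOf g / r)) = 2 * r := by
      have hh : orderOf (g ^ (orderOf g / r)) = r := orderOf_pow_orderOf_div (orderOf_pos g).ne' hrg
      have hc : Commute n g := (mul_inv_eq_iff_eq_mul.1 heq).symm
      rw [(hc.pow_right _).orderOf_mul_eq_mul_orderOf_of_coprime
        (by rw [hn2, hh]; exact (Nat.coprime_primes Nat.prime_two hr).2 hr2.symm), hn2, hh]
    have hrp : r ≠ p := fun h => hgp (h ▸ hrg)
    have hpo : ¬ p ∣ orderOf (n * g ^ (orderOf g / r)) := by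
      rw [ho]
      intro h
      rcases hp.out.dvd_mul.1 h with h' | h'
      · exact hp2 ((Nat.prime_dvd_prime_iff_eq hp.out Nat.prime_two).1 h')
      · exact hrp.symm ((Nat.prime_dvd_prime_iff_eq hp.out hr).1 h')
    rcases hE h8 _ hpo with h | h <;> rw [ho] at h
    · have : 2 ∣ Nat.card D := by
        rw [show Nat.card D = (q - 1) / 2 by omega]
        exact (dvd_mul_right 2 r).trans h
      exact hDodd this
    · have h1 : r ∣ q + 1 := ((dvd_mul_left r 2).trans h).trans (Nat.div_dvd_of_dvd (hqodd.add_odd odd_one).two_dvd)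
      have h3 : r ∣ q - 1 := hrD.trans (hD2 ▸ dvd_mul_left _ 2)
      have h4 : r ∣ (q + 1) - (q - 1) := Nat.dvd_sub h1 h3
      rw [show (q + 1) - (q - 1) = 2 by omega] at h4
      exact hr2 ((Nat.prime_dvd_prime_iff_eq hr Nat.prime_two).1 h4)
  have hab : IsMulCommutative (P : Subgroup G) := by
    obtain ⟨-, D, hDN, hD2, hDcop, -⟩ := counts hp2 hC hq hm hcard P
    have hPq := card_sylow_eq hp2 hq hm hcard P
    set Z := (Subgroup.center (P : Subgroup G)).map (P : Subgroup G).subtype with hZ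
    have hZc : Nat.card Z = Nat.card (Subgroup.center (P : Subgroup G)) :=
      Subgroup.card_map_of_injective (P : Subgroup G).subtype_injective
    have hdvd : Nat.card D ∣ Nat.card Z - 1 := by
      refine dvd_card_sub_one hC D Z hDcop (P.2.to_le (Subgroup.map_subtype_le _)) ?_
      rintro g hg _ ⟨z, hz, rfl⟩
      have hn' := Subgroup.mem_normalizer_iff.1 (hDN hg)
      refine ⟨⟨g * (z : G) * g⁻¹, (hn' _).1 z.2⟩, Subgroup.mem_center_iff.2 fun y => Subtype.ext ?_, rfl⟩
      have hy : g⁻¹ * (y : G) * g ∈ (P : Subgroup G) := (hn' _).2 (by simp [mul_assoc])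
      have := congrArg Subtype.val (Subgroup.mem_center_iff.1 hz ⟨_, hy⟩)
      simp only [Subgroup.coe_mul] at this ⊢
      calc (y : G) * (g * z * g⁻¹) = g * (g⁻¹ * y * g * z) * g⁻¹ := by group
        _ = g * ((z : G) * (g⁻¹ * y * g)) * g⁻¹ := by rw [this]
        _ = g * (z : G) * g⁻¹ * y := by group
    haveI : Nontrivial (P : Subgroup G) := Finite.one_lt_card_iff_nontrivial.1 (by omega)
    haveI := P.2.center_nontrivial
    have h1 : 1 < Nat.card (Subgroup.center (P : Subgroup G)) := Finite.one_lt_card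
    obtain ⟨a, ha, haq⟩ : ∃ a, a ≤ m ∧ Nat.card (Subgroup.center (P : Subgroup G)) = p ^ a :=
      (Nat.dvd_prime_pow hp.out).1 (by rw [← hq, ← hPq]; exact Subgroup.card_subgroup_dvd_card _)
    have hZq : a = m := by
      by_contra hne
      have h3 : p * p ^ a ≤ q := by
        rw [hq, ← pow_succ']; exact Nat.pow_le_pow_right hp.out.pos (by omega)
      have h4 : 3 ≤ p := by have := hp.out.two_le; omega
      have h5 : 3 * p ^ a ≤ q := (Nat.mul_le_mul_right _ h4).trans h3
      rw [hZc, haq] at hdvd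
      rw [haq] at h1
      have := Nat.le_of_dvd (by omega) hdvd
      omega
    have htop : Subgroup.center (P : Subgroup G) = ⊤ :=
      Subgroup.eq_top_of_card_eq _ (by rw [haq, hPq, hZq, hq])
    exact ⟨⟨fun x y => Subgroup.mem_center_iff.1 (htop ▸ Subgroup.mem_top y) x⟩⟩
  rcases Cfsg.Agent.S0731.result (Ω := Sylow p G)
      ⟨hfaith, h2, fun g a b c hab' hbc hac ha hb hc => hfixed a b g hab' ha hb c hac.symm hbc.symm hc, hex, hnoreg⟩
      P (P : Subgroup G) (fun x hx => Sylow.smul_eq_iff_mem_normalizer.2 (Subgroup.le_normalizer hx))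
      (by rw [Sylow.stabilizer_eq_normalizer]; exact Subgroup.normal_in_normalizer) hab (hreg P) with ⟨h3, h3'⟩ | h
  · exfalso
    haveI := Fintype.ofFinite (Sylow p G)
    have he : Nonempty (Fin 3 ↪ Sylow p G) := Function.Embedding.nonempty_of_card_le (by
      rw [Fintype.card_fin, ← Nat.card_eq_fintype_card, hn]; omega)
    obtain ⟨t⟩ := he
    have hbij : Function.Bijective fun g : G => g • t := by
      refine ⟨fun g h hgh => ?_, fun s => h3.exists_smul_eq t s⟩
      have : h⁻¹ * g ∈ MulAction.stabilizer G t := by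
        rw [MulAction.mem_stabilizer_iff, mul_smul, inv_smul_eq_iff]; exact hgh
      rw [h3' t, Subgroup.mem_bot] at this
      exact (inv_mul_eq_one.1 this).symm
    have hG := Nat.card_eq_of_bijective _ hbij
    rw [Nat.card_eq_fintype_card (α := Fin 3 ↪ Sylow p G), Fintype.card_embedding_eq, Fintype.card_fin,
      ← Nat.card_eq_fintype_card, hn] at hG
    obtain ⟨t, rfl⟩ : ∃ t, q = t + 1 := ⟨q - 1, by omega⟩
    simp [Nat.descFactorial] at hG
    rw [hG, show (t + 1) ^ 2 - 1 = t * (t + 2) by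
      rw [Nat.sub_eq_iff_eq_add (Nat.one_le_pow _ _ (by omega))]; ring] at hcard
    have ht : 0 < t := by omega
    have hX : 0 < t * ((t + 1) * (t + 1 + 1)) := Nat.mul_pos ht (by positivity)
    have heq : (t + 1) * (t * (t + 2)) = t * ((t + 1) * (t + 1 + 1)) := by ring
    omega
  · exact h

end CfsgLib.PSL2Spectrum
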